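import Cfsg.Agent.Lib.SZ.Main

/-!
# The class `CP`: involutions of 2-subgroups are central and detect odd automorphisms
-/

set_option autoImplicit false
set_option linter.unusedSectionVars false

namespace Cfsg.Agent.SP

open Subgroup Cfsg.Agent.Coprime Cfsg.Agent.OO
open scoped Pointwise

universe u

/-- involutions of 2-subgroups are central; odd elements which centralize the involutions of a
2-subgroup they normalize centralize it -/
structure CP (G : Type u) [Group G] : Prop where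
  cen : ∀ T : Subgroup G, IsPGroup 2 T → ∀ t ∈ T, t * t = 1 → t ∈ 𝐂(T)
  odd : ∀ T : Subgroup G, IsPGroup 2 T → ∀ g ∈ 𝐍(T), ¬ 2 ∣ orderOf g →
    (∀ t ∈ T, t * t = 1 → g ∈ 𝐂[t]) → g ∈ 𝐂(T)

variable {G G' : Type u} [Group G] [Group G']

theorem CP.of_injective (h : CP G) (f : G' →* G) (hf : Function.Injective f) : CP G' := by
  refine ⟨fun T hT t ht t2 => mem_cent_iff.2 fun x hx => hf ?_, fun T hT g hg ho e =>
    mem_cent_iff.2 fun x hx => hf ?_⟩
  · rw [map_mul, map_mul]
    exact mem_cent_iff.1 (h.cen _ (hT.map f) _ (mem_map_of_mem f ht)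
      (by rw [← map_mul, t2, map_one])) _ (mem_map_of_mem f hx)
  · rw [map_mul, map_mul]
    refine mem_cent_iff.1 (h.odd _ (hT.map f) _ (le_normalizer_map f (mem_map_of_mem f hg))
      (by rwa [orderOf_injective f hf]) ?_) _ (mem_map_of_mem f hx)
    rintro _ ⟨t, ht, rfl⟩ t2
    exact mem_cent1.2 (by
      rw [← map_mul, ← map_mul, mem_cent1.1 (e t ht (hf (by rw [map_mul, t2, map_one])))])

theorem CP.sub (h : CP G) (H : Subgroup G) : CP H := h.of_injective _ H.subtype_injective

theorem CP.equiv (h : CP G) (e : G' ≃* G) : CP G' := h.of_injective e.toMonoidHom e.injective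

theorem CP.of_surjective [Finite G] (h : CP G) (f : G →* G') (hf : Function.Surjective f)
    (hk : ¬ 2 ∣ ♯f.ker) : CP G' := by
  haveI := Finite.of_surjective f hf
  have key : ∀ T : Subgroup G', IsPGroup 2 T → ∃ S : Subgroup G, Syl 2 S (T.comap f) ∧
      S.map f = T ∧ ∀ x ∈ S, f x = 1 → x = 1 := fun T hT => by
    obtain ⟨S, hS⟩ := exists_syl 2 (T.comap f)
    refine ⟨S, hS, ?_, fun x hx e => ((piGrp_singleton hS.isPGroup).inf_eq_bot
      ((piGrp_compl_singleton Nat.prime_two).2 hk)).le ⟨hx, e⟩⟩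
    have := hS.map f
    rw [map_comap_eq_self_of_surjective hf] at this
    exact this.eq_self hT
  refine ⟨fun T hT t ht t2 => ?_, fun T hT g hg ho e => ?_⟩
  · obtain ⟨S, hS, rfl, h1⟩ := key T hT
    obtain ⟨t, ht, rfl⟩ := ht
    refine mem_cent_iff.2 ?_
    rintro _ ⟨x, hx, rfl⟩
    rw [← map_mul, ← map_mul, mem_cent_iff.1 (h.cen S hS.isPGroup t ht
      (h1 _ (mul_mem ht ht) (by rw [map_mul, t2]))) x hx]
  · obtain ⟨S, hS, rfl, h1⟩ := key T hT
    rw [← map_normalizer_eq f hf (coprime_of_isPGroup hS.isPGroup ((piGrp_compl_singleton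
      Nat.prime_two).2 hk)) (.inl (sol_of_nil hS.isPGroup.isNilpotent))] at hg
    obtain ⟨n, hn, rfl⟩ := hg
    have h2 : f (constt {2}ᶜ n) = f n := by
      rw [map_constt]
      exact constt_eq_self fun p hp hd e => ho (Set.mem_singleton_iff.1 e ▸ hd)
    have h3 := constt_mem {2}ᶜ hn
    have h4 : ¬ 2 ∣ orderOf (constt {2}ᶜ n) := fun e =>
      piElt_constt {2}ᶜ n 2 Nat.prime_two e rfl
    generalize constt {2}ᶜ n = m at h2 h3 h4
    rw [← h2] at e ⊢
    refine map_cent_le f S (mem_map_of_mem f (h.odd S hS.isPGroup m h3 h4 fun t ht t2 =>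
      mem_cent1_iff_conj.2 (mul_inv_eq_one.1 (h1 _ (mul_mem (conj_mem_of_norm h3 ht)
        (inv_mem ht)) ?_))))
    rw [map_mul, map_mul, map_mul, map_inv, map_inv, mem_cent1_iff_conj.1
      (e _ (mem_map_of_mem f ht) (by rw [← map_mul, t2, map_one])), mul_inv_cancel]

end Cfsg.Agent.SP
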