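import Cfsg.Agent.Lib.SP.Card
import Cfsg.Agent.Lib.R4.Hyp

/-!
# Bender's theorem for groups of class `CP`, when the involutions of the strongly embedded
subgroup commute
-/

set_option autoImplicit false
set_option linter.unusedSectionVars false

namespace Cfsg.Agent.SZ

open Subgroup MulAction Cfsg.Agent.Coprime Cfsg.Agent.OO Cfsg.Agent.SEA Cfsg.Agent.SP
open scoped Pointwise

universe u

variable {G Ω : Type u} [Group G] [MulAction G Ω] [Finite G]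
  {a b c : Ω} {g k s t u : G} {E K M Q : Subgroup G}

namespace Fr

variable (h : Fr G a b u K) (hG : IsSimpleGroup G) (h3 : CP G) (h0 : ¬ R1.Ab2 G)
  (ih : IHP.{u} (Nat.card G))
include h hG h3 h0 ih

theorem D_leP : D G a b ≤ K := by
  have hS := h.cent_twoP hG h3 ih
  obtain ⟨s, hs, s1⟩ := h.exists_A a
  by_cases e : D G a b ⊓ 𝐂[s] = ⊥
  · intro d hd
    obtain ⟨k, hk, e'⟩ := h.exists_K hs s1 (conj_mem_of_norm (stab_le_norm a hd.1) hs)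
      (BSW.conj_ne_one s1)
    exact inv_mul_eq_one.1 (e.le (mem_inf.2 ⟨mul_mem (inv_mem (h.K_le hk)) hd,
      mem_cent1_iff_conj.2 (by
        rw [show k⁻¹ * d * s * (k⁻¹ * d)⁻¹ = k⁻¹ * (d * s * d⁻¹) * k by group, ← e']; group)⟩)) ▸ hk
  obtain ⟨d, hd, hp⟩ := exists_prime_order_mem e
  exact h.D_le_of_cardP h3 h0 hS (h.card_eq_sqP hG h3 h0 ih hd.1 hp hs s1 (mem_cent1_comm.1 hd.2)) hG

theorem hypCP : BSW.HypC 𝐂(A G a) u := by
  have hC := h.cent_normal a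
  have hA := Ab.le_cent (h.A_ab a)
  have key : ∀ z ∈ 𝐂(A G a), z ≠ 1 → z * z = 1 → ∀ g : G, g * z = z * g ↔ g ∈ 𝐂(A G a) :=
    fun z hz z1 z2 g => by
      have h1 := h.mem_A.2 ⟨hC.le hz, z2⟩
      refine ⟨fun e => ?_, fun e => (mem_cent_iff.1 e z h1).symm⟩
      obtain ⟨y, hy, d, hd, rfl⟩ := (h.isProdP h3).mem_iff.1 (h.cent_le h1 z1 (mem_cent1.2 e))
      rwa [h.eq_one (h.D_leP hG h3 h0 ih hd) h1 z1 (mem_cent1.1 ((mul_mem_cancel_left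
        (cent_le_cent1 h1 hy)).1 (mem_cent1.2 e))).symm, mul_one]
  obtain ⟨s, hs, s1⟩ := h.exists_A a
  obtain ⟨k, hk, k1⟩ := h.exists_ne_one
  refine ⟨⟨key, s, hA hs, s1, h.sq hs⟩, fun x hx x1 g e => ?_, ⟨k, hC.norm (h.K_le' hk), fun e =>
    k1 (h.eq_one hk hs s1 (mem_cent_iff.1 e s hs))⟩, fun e => h.ne ?_, h.u2⟩
  · obtain ⟨_, ⟨i, rfl⟩, z1, z2⟩ := R1.exists_invol_mem (dvd_card_of_isPGroup
      ((h.cent_twoP hG h3 ih).to_le (zpowers_le.2 hx)) (zpowers_ne_bot.2 x1))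
    exact (key _ (zpow_mem hx i) z1 z2 g).1 (Commute.zpow_right e i)
  · exact (mem_stabilizer_iff.1 (h.norm_eq hA hC ▸ e)).symm.trans h.ua

theorem card_KtP : ♯(BSW.Kt 𝐂(A G a) u) + 1 = ♯(A G a) := by
  rw [h.Kt_eq, le_antisymm (h.D_leP hG h3 h0 ih) h.K_le, h.card_K, Nat.sub_add_cancel (card_pos' _)]

theorem card_centP : ♯𝐂(A G a) = ♯(A G a) ^ 2 := by
  have hS := h.cent_twoP hG h3 ih
  have hC := h.cent_normal a
  refine h.card_KtP hG h3 h0 ih ▸ ((R1.zt1 G _ u (h.hypCP hG h3 h0 ih)).resolve_left fun e => ?_).2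
  exact h.not_ab_cent h3 h0 hS
    (ab_of_le (h.A_ab a) fun x hx => h.mem_A.2 ⟨hC.le hx, e x hx⟩)

end Fr

theorem ihP (n : ℕ) : IHP.{u} n := by
  induction n with
  | zero => exact fun _ _ _ _ _ h => (Nat.not_lt_zero _ h).elim
  | succ n ih =>
  intro G Ω _ _ _ hn h3 h0 h a
  replace ih : IHP.{u} (Nat.card G) := fun X Y _ _ _ e => ih X Y (by omega)
  by_cases hk : (toPermHom G Ω).ker = ⊥
  swap
  · exact h.card_of_kerP h3 h0 ih hk a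
  haveI := h.nontriv
  obtain ⟨b, hab⟩ := exists_ne a
  obtain ⟨u, K, hK⟩ := h.exists_fr' hab.symm
  by_cases hG : IsSimpleGroup G
  · exact hK.card_centP hG h3 h0 ih ▸ h.card_eq (hK.cent_twoP hG h3 ih) (h.cent_A_le a) hab.symm
      fun _ => h.cent_transP h3 hab.symm
  haveI : Nontrivial G := ⟨⟨u, 1, swap_ne_one hab.symm hK.ua⟩⟩
  obtain ⟨N, hN, h1⟩ : ∃ N : Subgroup G, N.Normal ∧ N ≠ ⊥ ∧ N ≠ ⊤ := by
    by_contra! e
    exact hG ⟨fun N hN => or_iff_not_imp_left.2 (e N hN)⟩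
  obtain ⟨z, hz, z1, z2⟩ := R1.exists_invol_mem (H := N) (by_contra fun e => h1.1 (eq_bot_iff.2
    (hk.le.trans' fun x hx => Equiv.ext fun c => h.fix_of_odd e le_rfl (h.four c)
      (le_top.trans (normalIn_top.2 hN).norm) hx)))
  obtain ⟨d, hd⟩ := h.ex z z2
  have key : ∀ c : Ω, A G c ≤ N := fun c t ht => by
    by_cases t1 : t = 1
    · exact t1 ▸ one_mem N
    obtain ⟨g, -, rfl⟩ := (h.mem_invs (h.mem_A.2 ⟨hd, z2⟩) z1 t).1 ⟨t1, h.sq ht⟩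
    exact hN.conj_mem z hz g
  obtain ⟨t, ht, t1⟩ := h.exists_A b
  obtain ⟨Q, hQ, h4, h5, tr⟩ := h.subP h3 ih h1.2
    (by rw [inf_eq_left.2 (key a)]; exact h.four a) hab.symm ⟨ht, key b ht⟩ t1
  rw [inf_eq_left.2 (key a)] at h5
  have tr' : ∀ c, a ≠ c → ∃ y ∈ Q, y • b = c := fun c hc =>
    let ⟨r, hr, r1⟩ := h.exists_A c; tr c hc r ⟨hr, key c hr⟩ r1
  have h6 := h4.trans inf_le_left
  obtain ⟨h5, -⟩ | ⟨h5, -⟩ := h5
  · have h7 := h.syl_of_trans hQ hab.symm h6 le_rfl fun g hg => tr' _ fun e =>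
      hab.symm (smul_left_cancel g (hg.trans e))
    exact (h.not_abP h0 h7 (eq_of_le_of_card_ge (h.A_le_syl h7 (h.A_le a) le_rfl) h5.le ▸
      h.A_ab a)).elim
  · exact h5 ▸ h.card_eq hQ h6 hab.symm tr'

/-- the number of points -/
theorem Hyp.cardP (h : Hyp G Ω) (h3 : CP G) (h0 : ¬ R1.Ab2 G) (a : Ω) :
    Nat.card Ω = ♯(A G a) ^ 2 + 1 :=
  ihP _ G Ω (Nat.lt_succ_self _) h3 h0 h a

theorem Hyp.szP (h : Hyp G Ω) (h3 : CP G) (h0 : ¬ R1.Ab2 G) (hG : IsSimpleGroup G) :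
    ∃ (S : Subgroup G) (t : G) (m : ℕ), 1 ≤ m ∧ BSW.HypC S t ∧ ♯S = (2 ^ (2 * m + 1)) ^ 2 ∧
      ♯(BSW.Kt S t) + 1 = 2 ^ (2 * m + 1) ∧
      Nonempty (G ≃* Lie.Sz (GaloisField 2 (2 * m + 1)) (2 ^ (m + 1))) := by
  obtain ⟨a, b, hab⟩ := h.nontriv
  obtain ⟨u, K, hK⟩ := h.exists_fr' hab
  have ih := ihP.{u} (Nat.card G)
  have h1 := hK.card_centP hG h3 h0 ih
  have h2 := hK.card_KtP hG h3 h0 ih
  obtain ⟨m, h4, h5, -, h6⟩ := (hK.hypCP hG h3 h0 ih).suzuki (hK.cent_twoP hG h3 ih) (h2 ▸ h1)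
  exact ⟨_, u, m, h4, hK.hypCP hG h3 h0 ih, h5, h2.trans (Nat.pow_left_injective two_ne_zero
    (h1.symm.trans h5)), h6⟩

end Cfsg.Agent.SZ

namespace Cfsg.Agent.SP

universe u

/-- a simple group of class `CP` with a strongly embedded subgroup whose involutions commute -/
theorem szp {G : Type u} [Group G] [Finite G] {M : Subgroup G} (hG : IsSimpleGroup G) (h3 : CP G)
    (hM : ZL.SE M) (hc : ∀ s ∈ M, ∀ t ∈ M, s * s = 1 → t * t = 1 → s * t = t * s)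
    (h4 : ∃ s ∈ M, ∃ t ∈ M, s ≠ 1 ∧ t ≠ 1 ∧ s ≠ t ∧ s * s = 1 ∧ t * t = 1) :
    R1.Ab2 G ∨ R4.IsSz G :=
  or_iff_not_imp_left.2 fun h0 => ⟨hG, (SZ.hyp_of_se hM hc h4).szP h3 h0 hG⟩

end Cfsg.Agent.SP
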