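import Cfsg.Agent.Lib.SP.Nine

/-!
# Class `CP`: the order of `C(A)`; `S K ∪ S K u S` is a subgroup
-/

set_option autoImplicit false
set_option linter.unusedSectionVars false

namespace Cfsg.Agent.SZ

open Subgroup MulAction Cfsg.Agent.Coprime Cfsg.Agent.OO Cfsg.Agent.SEA Cfsg.Agent.SP BSW
open scoped Pointwise commutatorElement

universe u

variable {G Ω : Type u} [Group G] [MulAction G Ω] [Finite G]
  {a b c : Ω} {d g k r s t u w x y : G} {E H K N P Q S : Subgroup G} {p : ℕ}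

namespace Fr

variable (h : Fr G a b u K)
include h

theorem not_ab_cent (h3 : CP G) (h2 : ¬ R1.Ab2 G) (hS : IsPGroup 2 𝐂(A G a)) : ¬ Ab 𝐂(A G a) :=
  h.not_abP h2 (syl_of_max (h.cent_A_le a) hS fun _ h1 h2 hU =>
    le_antisymm (h.le_centP h3 hU h2) h1)

theorem higmanP (h3 : CP G) (h2 : ¬ R1.Ab2 G) (hS : IsPGroup 2 𝐂(A G a)) :
    ♯𝐂(A G a) = ♯(A G a) ^ 2 ∨ ♯𝐂(A G a) = ♯(A G a) ^ 3 := by
  have hC := h.cent_normal a
  have hA := Ab.le_cent (h.A_ab a)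
  obtain ⟨h1, -, -, h2⟩ := R1.higman G _ K hS h.cyc (h.K_le'.trans hC.norm)
    (h.not_ab_cent h3 h2 hS)
    (let ⟨s, hs, t, ht, s1, t1, e⟩ := h.exists_two a
     ⟨s, hA hs, t, hA ht, e, s1, h.sq hs, t1, h.sq ht⟩)
    fun x hx y hy x1 x2 y1 y2 => h.exists_K (h.mem_A.2 ⟨hC.le hx, x2⟩) x1
      (h.mem_A.2 ⟨hC.le hy, y2⟩) y1
  rwa [show ⁅𝐂(A G a), 𝐂(A G a)⁆ = A G a from Subgroup.ext fun x => (h1 x).trans
    ⟨fun e => h.mem_A.2 ⟨hC.le e.1, e.2⟩, fun e => ⟨hA e, h.sq e⟩⟩] at h2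

theorem card_eq_sqP (hG : IsSimpleGroup G) (h3 : CP G) (hab : ¬ R1.Ab2 G)
    (ih : IHP.{u} (Nat.card G))
    (hd : d ∈ D G a b) (hp : (orderOf d).Prime) (hs : s ∈ A G a) (s1 : s ≠ 1) (e : s ∈ 𝐂[d]) :
    ♯𝐂(A G a) = ♯(A G a) ^ 2 := by
  have hS := h.cent_twoP hG h3 ih
  have hC := h.cent_normal a
  have h1 := h.card_pow hS hd hp hs s1 e le_rfl (inf_le_left.trans hC.norm)
  have h2 := h.card_pow hS hd hp hs s1 e (Ab.le_cent (h.A_ab a))
    (inf_le_left.trans (stab_le_norm a))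
  obtain ⟨t, ht, t1, e'⟩ := h.good_elt hp ((isPiNum_prime hp).2 rfl) h.ne (h.smul_ne' hs h.ne)
    (h.smul_ne hs s1 h.ne).symm hd (by rw [← mul_smul, ← mem_cent1.1 e, mul_smul, hd.2]) hd.2
  have ne : ∀ g ∈ stabilizer G a, a ≠ g • b := fun g hg e =>
    h.ne (smul_left_cancel g (hg.trans e))
  by_cases h4 : 2 < ♯(A G a ⊓ 𝐂[d])
  · obtain ⟨Q, hQ, h5, h6, tr⟩ := h.subP h3 ih (H := 𝐂[d]) (fun e => hp.ne_one
      (orderOf_eq_one_iff.2 (zpowers_eq_bot.1 (h.eq_bot hG (zpowers_le.2 hd.1)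
        ((e.ge.trans (cent_zpowers d).ge).trans (cent_le_norm _)))))) h4 h.ne ⟨ht, e'⟩ t1
    have h7 := h.le_centP h3 hQ (h5.trans inf_le_left)
    have h8 : 𝐂(A G a) ⊓ 𝐂[d] = Q := le_antisymm (fun y hy => by
      obtain ⟨z, hz, e⟩ := tr _ (ne y (hC.le hy.1)) _ (mem_inf.2 ⟨conj_mem_A ht y,
        mul_mem (mul_mem hy.2 e') (inv_mem hy.2)⟩) (BSW.conj_ne_one t1)
      exact h.eq_of_smul_eq hS hC.le h.ne (h7 hz) hy.1 e ▸ hz) (le_inf h7 (h5.trans inf_le_right))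
    obtain ⟨h6, -⟩ | ⟨h6, -⟩ := h6
    · rw [h8, h6, ← h2] at h1
      exact (h.not_ab_cent h3 hab hS (eq_of_le_of_card_ge (Ab.le_cent (h.A_ab a)) h1.le ▸
        h.A_ab a)).elim
    · rw [h1, h8, h6, ← pow_mul, mul_comm, pow_mul, ← h2]
  refine (h.higmanP h3 hab hS).resolve_right fun h5 => ?_
  have h6 : ∀ x ∈ A G a ⊓ 𝐂[d], x ≠ 1 → x = s := fun x hx x1 => by_contra fun e1 =>
    h4 (two_lt_card hx ⟨hs, e⟩ x1 s1 e1)
  have h7 : ♯(A G a ⊓ 𝐂[d]) = 2 := by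
    have := one_lt_card (H := A G a ⊓ 𝐂[d]) fun e1 => s1 (e1.le ⟨hs, e⟩)
    omega
  rw [h1, h2, h7, ← pow_mul, mul_comm, pow_mul] at h5
  exact h.false_of_nine hG h3 hS hd hp hs s1 e h6 (h7 ▸ h2)
    (Nat.pow_left_injective hp.ne_zero h5) (h1.trans h5) ht t1 e'

theorem sq_eqP (hs : s ∈ A G a) (s1 : s ≠ 1) (hr : r ∈ 𝐂(A G a)) (e : u * s * u = r * u * r⁻¹)
    (h1 : r * r ∈ A G a) (r2 : r * r ≠ 1) : r * r = s := by
  have h4 : r * (s * u) * r⁻¹ = (s * u) ^ 2 := by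
    rw [← mul_assoc, ← mem_cent_iff.1 hr s hs, mul_assoc, mul_assoc, ← mul_assoc r, ← e, sq]; group
  have h5 : s * (s * u) * s⁻¹ = (s * u)⁻¹ := by
    rw [← mul_assoc, h.sq hs, mul_inv_rev, inv_eq_of_mul_self h.u2, one_mul]
  have h6 : s * u ∉ stabilizer G a := fun e =>
    h.ne (((mul_mem_cancel_left (h.A_le a hs)).1 e).symm.trans h.ua)
  obtain ⟨c, hc⟩ := h.ex u h.u2
  have h0 := h.odd_mul (a := c) (b := a) (fun e => h.ne (by rw [← h.ua, ← e, hc]))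
    (h.mem_A.2 ⟨hc, h.u2⟩) (swap_ne_one h.ne h.ua) hs s1
  generalize s * u = g at h4 h5 h6 h0
  have h7 : r * r * g * (r * r)⁻¹ = g ^ 4 := by
    calc _ = r * (r * g * r⁻¹) * r⁻¹ := by group
      _ = _ := by rw [h4, ← conj_pow, h4, ← pow_mul]
  have key : ∀ x : G, x * g * x⁻¹ ∈ zpowers g → x ∈ 𝐍(zpowers g) := fun x hx =>
    mem_norm_of_conj_le (by rw [conj_zpowers]; exact zpowers_le.2 hx)
  by_contra hne
  exact h6 (h.fix_of_odd (N := zpowers g) (H := A G a ⊓ 𝐍(zpowers g)) (by rwa [Nat.card_zpowers])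
    inf_le_left (two_lt_card ⟨h1, key _ (h7 ▸ pow_mem (mem_zpowers g) 4)⟩
      ⟨hs, key _ (h5 ▸ inv_mem (mem_zpowers g))⟩ r2 s1 hne) inf_le_right (mem_zpowers g))

/-- the block `{a} ∪ A b` -/
theorem not_mem_A (hΩ : Nat.card Ω = ♯(A G a) ^ 2 + 1) (hs : s ∈ A G a) (s1 : s ≠ 1)
    (hr : r ∈ A G a) (e : u * s * u = r * u * r⁻¹) : False := by
  let B : Set Ω := insert a ((fun y : G => y • b) '' A G a)
  have h1 : ∀ g ∈ stabilizer G a, g • b ∈ B → g ∈ stabilizer G B := fun g hg e => by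
    haveI := h.finite
    refine (mem_stabilizer_set_iff_smul_set_subset (Set.toFinite _)).2 ?_
    rintro _ ⟨_, rfl | ⟨y, hy, rfl⟩, rfl⟩
    · exact .inl hg
    obtain e | ⟨z, hz, e⟩ := e
    · exact (h.ne (smul_left_cancel g (hg.trans e.symm))).elim
    · exact .inr ⟨g * y * g⁻¹ * z, mul_mem (conj_mem_of_norm (stab_le_norm a hg) hy) hz, by
        simp only at e ⊢
        rw [mul_smul, e, conj_smul_smul]⟩
  have h2 : u ∈ stabilizer G B := by
    haveI := h.finite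
    refine (mem_stabilizer_set_iff_smul_set_subset (Set.toFinite _)).2 ?_
    rintro _ ⟨_, rfl | ⟨y, hy, rfl⟩, rfl⟩
    · exact .inr ⟨1, one_mem _, (one_smul _ _).trans h.ua.symm⟩
    by_cases y1 : y = 1
    · exact .inl (by simp only [y1, one_smul, h.ub])
    obtain ⟨k, hk, rfl⟩ := h.exists_K hs s1 hy y1
    refine .inr ⟨k⁻¹ * r * k⁻¹⁻¹, conj_mem_of_norm (stab_le_norm a (h.K_le' (inv_mem hk))) hr, ?_⟩
    have h4 : u * (k * s * k⁻¹) * u = k⁻¹ * r * u * (r⁻¹ * k) := by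
      calc _ = u * k * u⁻¹ * (u * s * u) * (u⁻¹ * k⁻¹ * u) := by group
        _ = _ := by
          rw [h.inv hk, e, show u⁻¹ * k⁻¹ * u = (u * k * u⁻¹)⁻¹ by
            rw [inv_eq_of_mul_self h.u2]; simp [inv_eq_of_mul_self h.u2, mul_assoc], h.inv hk]
          group
    simp only
    rw [← h.ua, ← mul_smul u, ← mul_smul (u * _), h4, mul_smul _ (r⁻¹ * k), mem_stabilizer_iff.1
      (mul_mem (inv_mem (h.A_le a hr)) (h.K_le' hk)), mul_smul _ u, h.ua, mul_smul _ k⁻¹⁻¹, inv_inv,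
      (h.K_le hk).2]
  have ne : ∀ g ∈ stabilizer G a, a ≠ g • b := fun g hg e =>
    h.ne (smul_left_cancel g (hg.trans e))
  have hB : ∀ c, c ∈ B ↔ ∃ g ∈ stabilizer G B, g • a = c := fun c => ⟨by
      rintro (rfl | ⟨y, hy, rfl⟩)
      · exact ⟨1, one_mem _, one_smul _ _⟩
      · exact ⟨y * u, mul_mem (h1 y (h.A_le a hy) (.inr ⟨y, hy, rfl⟩)) h2, by rw [mul_smul, h.ua]⟩,
    by
      rintro ⟨g, hg, rfl⟩
      exact (mem_stabilizer_iff.1 hg).le ⟨a, .inl rfl, rfl⟩⟩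
  have c0 : ((fun y : G => y • b) '' A G a).ncard = ♯(A G a) := by
    rw [Set.ncard_image_of_injOn
      fun x hx y hy => h.eq_of_smul_eq (h.A_two a) (h.A_le a) h.ne hx hy, ← Nat.card_coe_set_eq,
      SetLike.coe_sort_coe]
  have c1 : (stabilizer G a).relIndex (stabilizer G B) = ♯(A G a) + 1 := by
    rw [show (stabilizer G a).relIndex (stabilizer G B) = _ from index_stabilizer _ a,
      show orbit (stabilizer G B) a = B from Set.ext fun c => ⟨fun ⟨g, e⟩ => (hB c).2 ⟨g, g.2, e⟩,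
        fun e => let ⟨g, hg, e⟩ := (hB c).1 e; ⟨⟨g, hg⟩, e⟩⟩, Set.ncard_insert_of_notMem
      (by exact fun ⟨y, hy, e⟩ => ne y (h.A_le a hy) e.symm) (by haveI := h.finite; toFinite_tac),
      c0]
  have c2 : IsProd (A G a) (D G a b) (stabilizer G a ⊓ stabilizer G B) :=
    .of_forall (fun y hy => ⟨h.A_le a hy, h1 y (h.A_le a hy) (.inr ⟨y, hy, rfl⟩)⟩)
      (fun y hy => ⟨hy.1, h1 y hy.1 (.inr ⟨1, one_mem _, (one_smul _ _).trans hy.2.symm⟩)⟩)
      fun g hg => by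
        obtain e | ⟨y, hy, e⟩ := (mem_stabilizer_iff.1 hg.2).le
          ⟨b, .inr ⟨1, one_mem _, one_smul _ _⟩, rfl⟩
        · exact (ne g hg.1 e.symm).elim
        · exact ⟨y, hy, y⁻¹ * g, mem_D.2 ⟨mul_mem (inv_mem (h.A_le a hy)) hg.1, by
            simp only at e
            rw [mul_smul, ← e, inv_smul_smul]⟩, mul_inv_cancel_left _ _⟩
  have c3 := c2.card
  rw [(piGrp_singleton (h.A_two a)).inf_eq_bot ((piGrp_compl_singleton Nat.prime_two).2
    (h.odd_D h.ne)), card_bot, mul_one] at c3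
  have c4 := card_inf_mul_relIndex (stabilizer G a) (stabilizer G B)
  have c5 := card_subgroup_dvd_card (stabilizer G B)
  have c6 : ♯(stabilizer G a) = ♯(D G a b) * ♯(A G a) ^ 2 := by
    haveI := h.finite
    rw [← card_mul_relIndex (SEA.D_le a b), D, inf_relIndex_left,
      show (stabilizer G b).relIndex (stabilizer G a) = _ from index_stabilizer _ b,
      show orbit (stabilizer G a) b = Set.univ \ {a} from Set.ext fun c => ⟨fun ⟨g, e⟩ =>
        ⟨trivial, fun e' => ne g g.2 (e.trans e').symm⟩, fun hc =>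
        let ⟨g, hg, e⟩ := h.two_trans h.ne (Ne.symm hc.2); ⟨⟨g, hg⟩, e⟩⟩,
      Set.ncard_diff_singleton_of_mem (Set.mem_univ a), Set.ncard_univ, hΩ, Nat.add_sub_cancel]
  rw [← c4, ← c3, c1, ← card_mul_index (stabilizer G a), h.index_stab, hΩ, c6] at c5
  have c7 := h.four_le a
  have c8 := card_pos' (D G a b)
  generalize ♯(A G a) = q at c5 c7
  generalize ♯(D G a b) = m at c5 c8
  rw [show m * q ^ 2 * (q ^ 2 + 1) = q * m * (q * (q ^ 2 + 1)) by ring,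
    Nat.mul_dvd_mul_iff_left (by positivity)] at c5
  obtain ⟨z, rfl⟩ : ∃ z, q = z + 1 := ⟨q - 1, by omega⟩
  have c9 : z + 1 + 1 ∣ 2 := (Nat.dvd_add_right c5).1
    ⟨z ^ 2 + z + 2, by ring⟩
  have := Nat.le_of_dvd two_pos c9
  omega

variable (h3 : CP G) (hab : ¬ R1.Ab2 G)
include h3 hab

variable (hS : IsPGroup 2 𝐂(A G a)) (hq : ♯𝐂(A G a) = ♯(A G a) ^ 2)
include hS hq

theorem sq_centP : Sq (A G a) 𝐂(A G a) :=
  (h.sq_of_card hS (Ab.le_cent (h.A_ab a)) le_rfl hq fun _ hs s1 _ ht t1 =>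
    let ⟨k, hk, e⟩ := h.exists_K hs s1 ht t1
    ⟨k, (h.cent_normal a).norm (h.K_le' hk), e⟩).1

theorem bruhatP (hx : x ∈ 𝐂(A G a)) (x1 : x ≠ 1) :
    ∃ y ∈ 𝐂(A G a), ∃ j ∈ K, ∃ z ∈ 𝐂(A G a), u * x * u = y * u * j * z := by
  classical
  have hC := h.cent_normal a
  have hA := Ab.le_cent (h.A_ab a)
  have sq := h.sq_centP h3 hab hS hq
  obtain ⟨s, hs, s1, r, hr, e⟩ := h.str (h.K_le'.trans hC.norm) hC.le fun _ => h.cent_transP h3 h.ne
  obtain ⟨F, _, α, κ, fm, rfl⟩ := (h.rg hs s1).exists_fm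
  have := fm.charP
  have r2 := h.sq_eqP hs s1 hr e (sq.sq r hr) fun r2 => h.not_mem_A (hq ▸ h.card_eq hS hC.le h.ne
    fun _ => h.cent_transP h3 h.ne) hs s1 (h.mem_A.2 ⟨hC.le hr, r2⟩) e
  have rel : Rel1 α κ r u := ⟨fm.a_add, fm.k_mul, fm.k_conj, h.u2, fun c _ => by
    rw [← h.inv (fm.k_mem c), inv_mul_cancel_right], e⟩
  have hm : ∀ c, rho κ r c ∈ 𝐂(A G a) := fun c => hC.conj_mem (h.K_le' (fm.k_mem c)) hr
  have hm2 : ∀ c, c ≠ 0 → rho κ r c * rho κ r c = α c := fun c hc => by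
    rw [rho, conj_mul, r2, fm.k_conj c hc, mul_one]
  by_cases hxA : x ∈ A G a
  · obtain ⟨c, rfl⟩ := fm.a_surj x hxA
    exact ⟨_, hm _, _, fm.k_mem _, _, inv_mem (hm _), rel.t_a (mt fm.a_eq_one_iff.2 x1)⟩
  let v : F → G := fun c => if c = 0 then 1 else rho κ r c
  have u0 : v 0 = 1 := if_pos rfl
  have u1 : ∀ c, c ≠ 0 → v c = rho κ r c := fun c hc => if_neg hc
  obtain ⟨c, d, hcd, rfl⟩ := fm.exists_quot (v := v) sq hA le_rfl
    (h.not_ab_cent h3 hab hS)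
    (fun c => by
      by_cases hc : c = 0
      · rw [hc, u0]; exact one_mem _
      · rw [u1 c hc]; exact hm c)
    (fun c => by
      by_cases hc : c = 0
      · rw [hc, u0, one_mul, fm.a_zero]
      · rw [u1 c hc, hm2 c hc]) u0
    (fun l hl c => by
      by_cases hc : c = 0
      · rw [hc, mul_zero, u0]; group
      · rw [u1 c hc, u1 _ (mul_ne_zero hl hc), rel.k_rho hl hc])
    (fun c d hc hd hcd e => by
      have h1 := rel.t_D hc hd hcd
      have h2 := rel.t_rho one_ne_zero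
      rw [u1 c hc, u1 d hd, u1 1 one_ne_zero] at e
      rw [e, h2] at h1
      replace h1 := congrArg (· • a) h1
      simp only [mul_smul, mem_stabilizer_iff.1 (hC.le (hm _)),
        mem_stabilizer_iff.1 (hC.le (inv_mem (hm _))), mem_stabilizer_iff.1 (h.K_le' (fm.k_mem _)),
        h.ua] at h1
      rw [← mul_smul] at h1
      have h4 := eq_inv_mul_iff_mul_eq.1 (h.eq_of_smul_eq hS hC.le h.ne (hA (fm.a_mem _))
        (mul_mem (inv_mem (hm _)) (hm _)) h1)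
      have h5 := hm2 _ (div_ne_zero hd (mul_ne_zero hc hcd))
      rw [← h4, mul_assoc, ← mul_assoc (α _), mem_cent_iff.1 (hm _) _ (fm.a_mem _), mul_assoc,
        fm.a_sq, mul_one, hm2 _ (inv_ne_zero hc)] at h5
      have h6 := fm.a_inj h5
      field_simp at h6
      exact hc (by linear_combination h6)) hx hxA
  by_cases hc : c = 0
  · rw [hc, u0, inv_one, one_mul, u1 d fun e => hcd (hc.trans e.symm)]
    exact ⟨_, hA (fm.a_mem _), _, fm.k_mem _, _, hm _, rel.t_rho fun e => hcd (hc.trans e.symm)⟩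
  by_cases hd : d = 0
  · rw [hd, u0, mul_one, u1 c hc]
    exact ⟨_, inv_mem (hm _), _, fm.k_mem _, _, inv_mem (hA (fm.a_mem _)), rel.t_rho_inv hc⟩
  rw [u1 c hc, u1 d hd]
  exact ⟨_, mul_mem (inv_mem (hm _)) (hm _), _, fm.k_mem _, _, mul_mem (inv_mem (hm _)) (hm _),
    rel.t_D hc hd (mt CharTwo.add_eq_zero.1 hcd)⟩

theorem D_le_of_cardP (hG : IsSimpleGroup G) : D G a b ≤ K := by
  have hC := h.cent_normal a
  have hA := Ab.le_cent (h.A_ab a)
  have hW := h.W_eq_bot hS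
  have br := fun x => h.bruhatP (x := x) h3 hab hS hq
  have tr := fun c => h.cent_transP (c := c) h3 h.ne
  generalize 𝐂(A G a) = S at hC hA hW br tr
  have hn : K ≤ 𝐍(S) := h.K_le'.trans hC.norm
  have hB : S ⊔ K ≤ stabilizer G a := sup_le hC.le h.K_le'
  let T : Set G := {g | g ∈ S ⊔ K ∨ ∃ x ∈ S ⊔ K, ∃ t ∈ S, g = x * u * t}
  have h1 : S ≤ stabilizer G T := fun t ht =>
    (mem_stabilizer_set_iff_smul_set_subset (Set.toFinite _)).2 (by
      rintro _ ⟨g, hg | ⟨x, hx, r, hr, rfl⟩, rfl⟩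
      · exact .inl (mul_mem (mem_sup_left ht) hg)
      · exact .inr ⟨t * x, mul_mem (mem_sup_left ht) hx, r, hr, by simp [mul_assoc]⟩)
  have hs : S ⊔ K ≤ K ⊔ S := (sup_comm _ _).le
  have hu : ∀ k ∈ K, u * k = k⁻¹ * u := fun k hk => by rw [← h.inv hk, inv_mul_cancel_right]
  have h2 : u ∈ stabilizer G T := (mem_stabilizer_set_iff_smul_set_subset (Set.toFinite _)).2 (by
    rintro _ ⟨g, hg | ⟨x, hx, r, hr, rfl⟩, rfl⟩
    · obtain ⟨k, hk, t, ht, rfl⟩ := (mem_sup_norm_right hn).1 (hs hg)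
      exact .inr ⟨k⁻¹, mem_sup_right (inv_mem hk), t, ht, by simp [← mul_assoc, hu k hk]⟩
    obtain ⟨k, hk, t, ht, rfl⟩ := (mem_sup_norm_right hn).1 (hs hx)
    have e : u • (k * t * u * r) = k⁻¹ * (u * t * u) * r := by
      simp only [smul_eq_mul, ← mul_assoc, hu k hk]
    by_cases t1 : t = 1
    · exact .inl (e.symm ▸ mul_mem (by simpa [t1, h.u2] using mem_sup_right hk) (mem_sup_left hr) :
        u • (k * t * u * r) ∈ _)
    obtain ⟨y, hy, j, hj, z, hz, e'⟩ := br t ht t1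
    refine .inr ⟨k⁻¹ * y * j⁻¹, mul_mem (mul_mem (mem_sup_right (inv_mem hk)) (mem_sup_left hy))
      (mem_sup_right (inv_mem hj)), z * r, mul_mem hz hr, ?_⟩
    show u • _ = _
    rw [e, e', mul_assoc y, hu j hj]
    group)
  have h3 : ∀ c : Ω, A G c ≤ stabilizer G T := fun c => by
    by_cases e : a = c
    · exact e ▸ hA.trans h1
    obtain ⟨t, ht, rfl⟩ := tr c e
    rw [← h.ua, ← mul_smul, ← conj_A]
    exact conj_le_of_mem (mul_mem (h1 ht) h2) (hA.trans h1)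
  obtain ⟨s, hs, s1⟩ := h.exists_A a
  have h4 := ((stabilizer G T).normalCore_normal.eq_bot_or_eq_top.resolve_left fun e =>
    s1 (e.le fun g => h3 _ (conj_mem_A hs g))).ge.trans (normalCore_le _)
  intro d hd
  rcases (mem_stabilizer_iff.1 (h4 (mem_top d))).le ⟨1, .inl (one_mem _), mul_one d⟩ with
    e | ⟨x, hx, t, ht, rfl⟩
  · obtain ⟨t, ht, k, hk, rfl⟩ := (mem_sup_norm_left hn).1 e
    rwa [mem_bot.1 (hW.le ⟨ht, (mul_mem_cancel_right (h.K_le hk)).1 hd⟩), one_mul]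
  · have := mem_stabilizer_iff.1 hd.1
    rw [mul_smul, mul_smul, hC.le ht, h.ua] at this
    exact (h.ne (smul_left_cancel x ((hB hx).trans this.symm))).elim

end Fr

end Cfsg.Agent.SZ
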