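import Cfsg.Agent.Lib.SP.Blk

/-!
# The induction: `C(A)` is a 2-group (class `CP`)
-/

set_option autoImplicit false
set_option linter.unusedSectionVars false

namespace Cfsg.Agent.SZ

open Subgroup MulAction Cfsg.Agent.Coprime Cfsg.Agent.OO Cfsg.Agent.SEA Cfsg.Agent.SP
open scoped Pointwise commutatorElement

universe u

variable {G Ω : Type u} [Group G] [MulAction G Ω] [Finite G]
  {a b c : Ω} {d g k r s t u w x y : G} {E H K N P Q S : Subgroup G} {p : ℕ}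

/-- the induction hypothesis -/
def IHP (n : ℕ) : Prop := ∀ (G Ω : Type u) [Group G] [MulAction G Ω] [Finite G],
  Nat.card G < n → CP G → ¬ R1.Ab2 G → Hyp G Ω → ∀ a : Ω, Nat.card Ω = ♯(A G a) ^ 2 + 1

theorem Pre.subP (h : Pre G Ω) (h3 : CP G) (ih : IHP.{u} (Nat.card G)) (hH : H ≠ ⊤)
    (h4 : 2 < ♯(A G a ⊓ H)) (hab : a ≠ b) (ht : t ∈ A G b ⊓ H) (t1 : t ≠ 1) :
    ∃ Q : Subgroup G, IsPGroup 2 Q ∧ Q ≤ stabilizer G a ⊓ H ∧
      (♯Q = ♯(A G a ⊓ H) ∧ R1.Ab2 H ∨ ♯Q = ♯(A G a ⊓ H) ^ 2 ∧ ¬ R1.Ab2 H) ∧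
      ∀ c, a ≠ c → ∀ r ∈ A G c ⊓ H, r ≠ 1 → ∃ y ∈ Q, y • b = c := by
  obtain ⟨s, hs, s1⟩ : ∃ s ∈ A G a ⊓ H, s ≠ 1 := exists_mem_ne_one fun e => by simp [e] at h4
  have key : ∀ c : Ω, ∀ t ∈ A G c ⊓ H, t ≠ 1 → c ∈ orbit H a := fun c t ht t1 => by
    by_cases e : a = c
    · exact e ▸ mem_orbit_self a
    obtain ⟨w, -, h1, -, h2⟩ := h.exists_swap e hs.1 s1 ht.1 t1
    exact ⟨⟨w, h2 H hs.2 ht.2⟩, h1⟩
  have hp : Pre H (orbit H a) := ⟨fun t e => by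
      by_cases t1 : t = 1
      · exact ⟨⟨a, mem_orbit_self a⟩, by rw [t1, one_smul]⟩
      obtain ⟨c, hc⟩ := h.ex t (congrArg Subtype.val e)
      exact ⟨⟨c, key c t ⟨h.mem_A.2 ⟨hc, congrArg Subtype.val e⟩, t.2⟩ fun e => t1 (Subtype.ext e)⟩,
        Subtype.ext hc⟩,
    fun t1 t2 e e' => Subtype.ext (h.uniq (fun e => t1 (Subtype.ext e)) (congrArg Subtype.val t2)
      (congrArg Subtype.val e) (congrArg Subtype.val e')),
    fun s2 t2 e e' => Subtype.ext (h.comm (congrArg Subtype.val s2) (congrArg Subtype.val t2)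
      (congrArg Subtype.val e) (congrArg Subtype.val e'))⟩
  have h5 : ♯(A H (⟨a, mem_orbit_self a⟩ : orbit H a)) = ♯(A G a ⊓ H) := by
    rw [← card_map_of_injective H.subtype_injective]
    refine congrArg (♯·) (le_antisymm ?_ fun x hx => ⟨⟨x, hx.2⟩, hp.mem_A.2
      ⟨Subtype.ext (h.fix hx.1), Subtype.ext (h.sq hx.1)⟩, rfl⟩)
    rintro _ ⟨z, hz, rfl⟩
    exact ⟨h.mem_A.2 ⟨congrArg Subtype.val (hp.fix hz), congrArg Subtype.val (hp.sq hz)⟩, z.2⟩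
  have hy : Hyp H (orbit H a) := ⟨hp, exists_smul_eq H,
    ⟨⟨a, mem_orbit_self a⟩, ⟨b, key b t ht t1⟩, mt (congrArg Subtype.val) hab⟩, fun c => by
      obtain ⟨g, rfl⟩ := exists_smul_eq H (⟨a, mem_orbit_self a⟩ : orbit H a) c
      rwa [← conj_A, card_conj, h5]⟩
  obtain ⟨Q, h6, h7, h8, tr⟩ : ∃ Q : Subgroup H, IsPGroup 2 Q ∧
      Q ≤ stabilizer H (⟨a, mem_orbit_self a⟩ : orbit H a) ∧
      (♯Q = ♯(A G a ⊓ H) ∧ R1.Ab2 H ∨ ♯Q = ♯(A G a ⊓ H) ^ 2 ∧ ¬ R1.Ab2 H) ∧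
      ∀ c : orbit H a, ⟨a, mem_orbit_self a⟩ ≠ c →
        ∃ y ∈ Q, y • (⟨b, key b t ht t1⟩ : orbit H a) = c := by
    by_cases h2 : R1.Ab2 H
    · exact ⟨_, hy.A_two _, hy.A_le _, .inl ⟨h5, h2⟩, fun c hc =>
        (hy.sea h2).tr _ _ c (mt (congrArg Subtype.val) hab) hc⟩
    obtain ⟨Q, h6, h7, h8, -, tr⟩ := hy.exists_QP h2 (ih H _ (card_top (G := G) ▸
      card_lt_of_lt hH.lt_top) (h3.sub H) h2 hy ⟨a, mem_orbit_self a⟩) (b := ⟨b, key b t ht t1⟩)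
      (mt (congrArg Subtype.val) hab)
    exact ⟨Q, h6, h7, .inr ⟨h5 ▸ h8, h2⟩, tr⟩
  refine ⟨Q.map H.subtype, h6.map _, ?_, by rwa [card_map_of_injective H.subtype_injective],
    fun c hc r hr r1 => ?_⟩
  · rintro _ ⟨z, hz, rfl⟩
    exact ⟨congrArg Subtype.val (h7 hz), z.2⟩
  · obtain ⟨z, hz, e⟩ := tr ⟨c, key c r hr r1⟩ (mt (congrArg Subtype.val) hc)
    exact ⟨z, mem_map_of_mem _ hz, congrArg Subtype.val e⟩

theorem Hyp.card_of_kerP (h : Hyp G Ω) (h3 : CP G) (h2 : ¬ R1.Ab2 G) (ih : IHP.{u} (Nat.card G))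
    (hk : (toPermHom G Ω).ker ≠ ⊥) (a : Ω) : Nat.card Ω = ♯(A G a) ^ 2 + 1 := by
  haveI := h.finite
  let f := (toPermHom G Ω).rangeRestrict
  have hf := (toPermHom G Ω).rangeRestrict_surjective
  have lift : ∀ z : (toPermHom G Ω).range, z * z = 1 → ∃ t : G, t * t = 1 ∧ f t = z := fun z e => by
    obtain ⟨a, b, hab⟩ := h.nontriv
    obtain ⟨g, rfl⟩ := hf z
    have h1 : ∀ c : Ω, (g * g) • c = c := fun c => DFunLike.congr_fun (congrArg Subtype.val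
      ((map_mul f g g).trans e)) c
    obtain ⟨j, hj⟩ : Odd (orderOf (g * g)) :=
      Nat.not_even_iff_odd.1 fun e => h.odd_of_mem_D hab ⟨h1 a, h1 b⟩ e.two_dvd
    refine ⟨(g * g) ^ j * g, ?_, by rw [map_mul, map_pow, map_mul, e, one_pow, one_mul]⟩
    rw [← pow_orderOf_eq_one (g * g), hj, ← pow_two, ← pow_two, ← pow_mul, ← pow_succ, ← pow_mul,
      ← pow_mul, mul_comm]
  have hp : Pre (toPermHom G Ω).range Ω := ⟨fun z e => by
      obtain ⟨t, t2, rfl⟩ := lift z e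
      exact h.ex t t2,
    fun {z _ _} z1 e e1 e2 => by
      obtain ⟨t, t2, rfl⟩ := lift z e
      exact h.uniq (fun e => z1 (by rw [e, map_one])) t2 e1 e2,
    fun {y z _} e e' e1 e2 => by
      obtain ⟨s, s2, rfl⟩ := lift y e
      obtain ⟨t, t2, rfl⟩ := lift z e'
      rw [← map_mul, h.comm s2 t2 e1 e2, map_mul]⟩
  have key : ∀ a : Ω, ♯(A (toPermHom G Ω).range a) = ♯(A G a) := fun a => by
    haveI := h.nontriv
    obtain ⟨b, e⟩ := exists_ne a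
    refine (Nat.card_eq_of_bijective (fun s => ⟨f s, hp.mem_A.2 ⟨h.fix s.2, by
      rw [← map_mul, h.sq s.2, map_one]⟩⟩) ⟨fun s t e' => Subtype.ext (h.eq_of_smul_eq (h.A_two a)
        (h.A_le a) e.symm s.2 t.2 (congrArg (·.1.1 b) e')), fun z => ?_⟩).symm
    obtain ⟨t, t2, e⟩ := lift z (hp.sq z.2)
    exact ⟨⟨t, h.mem_A.2 ⟨(congrArg (·.1 a) e).trans (hp.fix z.2), t2⟩⟩, Subtype.ext e⟩
  have hko : ¬ 2 ∣ ♯f.ker := fun e => by
    obtain ⟨a, b, hab⟩ := h.nontriv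
    exact h.odd_D hab (e.trans (card_dvd fun x hx => mem_D.2
      ⟨DFunLike.congr_fun (congrArg Subtype.val hx) a, DFunLike.congr_fun (congrArg Subtype.val hx) b⟩))
  rw [← key a]
  exact ih _ Ω (by
    rw [← index_ker, ← card_mul_index (toPermHom G Ω).ker]
    exact lt_mul_of_one_lt_left (Nat.pos_of_ne_zero index_ne_zero_of_finite) (one_lt_card hk))
    (h3.of_surjective f hf hko) (fun e => h2 fun P hP => ab_iff.2 fun x hx y hy =>
      commutatorElement_eq_one_iff_mul_comm.1 (((piGrp_singleton hP).inf_eq_bot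
        ((piGrp_compl_singleton Nat.prime_two).2 hko)).le (mem_inf.2 ⟨mul_mem (mul_mem (mul_mem hx hy)
          (inv_mem hx)) (inv_mem hy), (map_commutatorElement f x y).trans
            (commutatorElement_eq_one_iff_mul_comm.2 (ab_iff.1 (e _ (hP.map f)) _
              (mem_map_of_mem f hx) _ (mem_map_of_mem f hy)))⟩)))
    ⟨hp, fun a b => let ⟨g, e⟩ := h.trans a b; ⟨f g, e⟩, h.nontriv,
      fun a => (h.four a).trans_eq (key a).symm⟩ a

namespace Fr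

variable (h : Fr G a b u K) (hG : IsSimpleGroup G) (h3 : CP G) (ih : IHP.{u} (Nat.card G))
include h hG

include h3 ih

theorem syl_WP [Fact p.Prime] (hP : Syl p P (D G a b ⊓ 𝐂(A G a))) (h1 : P ≠ ⊥) :
    Syl p P 𝐂(A G a) := by
  have hC := h.cent_normal a
  have hPC := hP.le.trans inf_le_right
  have h2 : A G a ≤ 𝐂(P) := le_cent_comm.1 hPC
  have h2' : A G b ≤ 𝐂(P) := le_cent_comm.1 (hP.le.trans ((h.W_comm h.ne).le.trans inf_le_right))
  obtain ⟨t, ht, t1⟩ := h.exists_A b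
  obtain ⟨Q, hQ, h4, -, tr⟩ := h.subP h3 ih (H := 𝐂(P)) (fun e => h1 (h.eq_bot hG
    (hPC.trans hC.le) (e.ge.trans (cent_le_norm P))))
    (by rw [inf_eq_left.2 h2]; exact h.four a) h.ne ⟨ht, h2' ht⟩ t1
  have hQC := h.le_centP h3 hQ (h4.trans inf_le_left)
  have hQP := h4.trans inf_le_right
  have h7 : Q ≤ 𝐂(A G a) ⊓ 𝐍(P) := le_inf hQC (hQP.trans (cent_le_norm P))
  have h8 : ∀ g ∈ 𝐂(A G a) ⊓ 𝐍(P), ∃ y ∈ Q, y • b = g • b := fun g hg =>
    tr _ (fun e => h.ne (smul_left_cancel g ((hC.le hg.1).trans e))) _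
      ⟨conj_mem_A ht g, conj_mem_of_norm (norm_le_norm_cent P hg.2) (h2' ht)⟩ (BSW.conj_ne_one t1)
  have h9 := h.isProd_of_trans h7 (inf_le_left.trans hC.le) h8
  have hD := (piGrp_compl_singleton Nat.prime_two).2 (h.odd_D h.ne)
  exact .of_syl_norm hPC ((hP.mono (le_inf (le_inf hPC (le_norm_self P))
    (hP.le.trans inf_le_left)) fun x hx => ⟨hx.2, hx.1.1⟩).trans_hall (h9.symm.hall_left
      (hD.of_le inf_le_right) (by rw [compl_compl]; exact piGrp_singleton hQ))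
    (mem_of_isPGroup_of_piGrp hP.isPGroup h1 (hD.of_le (hP.le.trans inf_le_left))))

theorem cent_twoP : IsPGroup 2 𝐂(A G a) := by
  have hC := h.cent_normal a
  have hP := h.pnilP h3 a
  obtain ⟨S, hS⟩ := exists_syl 2 𝐂(A G a)
  have hY := hP.sdprod hS
  by_cases e : Op' 2 𝐂(A G a) = ⊥
  · exact hY.right_eq_iff.2 e ▸ hS.isPGroup
  obtain ⟨N, h1, h2, h4, p, hp, h5⟩ := exists_norm_abelem (Feit_Thompson
    (Nat.not_even_iff_odd.1 fun e => not_dvd_Op' _ e.two_dvd)) e (hC.Opi _).norm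
  haveI := Fact.mk hp
  refine (h.false_of_normalP h3 hG hP h1 h4 h2 (by_contra fun e' => h4 ?_)).elim
  obtain ⟨P, hP, h6⟩ := exists_syl_ge (le_inf inf_le_right (inf_le_left.trans
    (h1.trans hY.left_le))) ((abelem_isPGroup h5).to_le (inf_le_left : N ⊓ D G a b ≤ N))
  have h7 := ((h.syl_WP hG h3 ih hP fun e => e' (eq_bot_iff.2 (h6.trans e.le))).le_of_normal
    ⟨h1.trans hY.left_le, hC.le.trans h2⟩ (abelem_isPGroup h5)).trans (hP.le.trans inf_le_left)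
  refine eq_bot_iff.2 (le_trans (fun x hx => Equiv.ext fun c => ?_)
    (h.eq_bot hG (N := (toPermHom G Ω).ker) (fun g hg => DFunLike.congr_fun hg a)
      (normalIn_top.2 inferInstance).norm).le)
  by_cases e : a = c
  · exact e ▸ (h7 hx).1
  obtain ⟨g, hg, rfl⟩ := h.two_trans h.ne e
  exact smul_fix_of_norm (h2 hg) (h7.trans inf_le_right) hx

end Fr

end Cfsg.Agent.SZ
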