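import Cfsg.Agent.Lib.SP.Ind
import Cfsg.Agent.Lib.Coprime.SylowOrbit

/-!
# Class `CP`: an element of the two point stabilizer does not fix exactly nine points
-/

set_option autoImplicit false
set_option linter.unusedSectionVars false

namespace Cfsg.Agent.SZ

open Subgroup MulAction Cfsg.Agent.Coprime Cfsg.Agent.OO Cfsg.Agent.SEA Cfsg.Agent.SP
open scoped Pointwise commutatorElement

universe u

variable {G Ω : Type u} [Group G] [MulAction G Ω] [Finite G]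
  {a b c : Ω} {d g k r s t u w x y : G} {E H K N P Q S : Subgroup G} {p : ℕ}

theorem dvd_ncard_conjP {n : ℕ} {X : Set G} (hA : ∀ x ∈ P, ∀ a ∈ X, x * a * x⁻¹ ∈ X)
    (h : ∀ a ∈ X, n ∣ 𝐂[a].relIndex P) : n ∣ X.ncard :=
  @dvd_ncard_of_forall_orbit G _ G _ (MulAction.compHom G (MulAut.conj : G →* MulAut G)) P n X hA
    fun a ha => by
      convert h a ha using 1
      rw [relIndex_centralizer_eq_ncard]
      congr 1
      ext y
      exact ⟨fun ⟨x, e⟩ => ⟨x, x.2, e.symm⟩, fun ⟨x, hx, e⟩ => ⟨⟨x, hx⟩, e.symm⟩⟩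

theorem Fr.false_of_nine (h : Fr G a b u K) (hG : IsSimpleGroup G) (h3 : CP G)
    (hS : IsPGroup 2 𝐂(A G a)) (hd : d ∈ D G a b) (hp : (orderOf d).Prime) (hs : s ∈ A G a)
    (s1 : s ≠ 1) (e : s ∈ 𝐂[d]) (h6 : ∀ x ∈ A G a ⊓ 𝐂[d], x ≠ 1 → x = s)
    (hA : ♯(A G a) = 2 ^ orderOf d) (hY : ♯(𝐂(A G a) ⊓ 𝐂[d]) = 8)
    (hq : ♯𝐂(A G a) = 8 ^ orderOf d) (ht : t ∈ A G b) (t1 : t ≠ 1) (e' : t ∈ 𝐂[d]) : False := by
  have hC := h.cent_normal a
  have hW := h.W_eq_bot hS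
  have hP := h.isProdP h3
  haveI := Fact.mk hp
  have d1 : d ≠ 1 := mt orderOf_eq_one_iff.2 hp.ne_one
  have hdo := h.odd_of_mem_D h.ne hd
  have ne : ∀ g ∈ stabilizer G a, a ≠ g • b := fun g hg e =>
    h.ne (smul_left_cancel g (hg.trans e))
  have f0 : zpowers d ≤ D G a b ⊓ 𝐂[s] := zpowers_le.2 ⟨hd, mem_cent1_comm.1 e⟩
  have f1 : D G a b ⊓ 𝐂[s] = zpowers d := (eq_of_le_of_card_ge f0 (by
    have h1 := card_inf_mul_relIndex 𝐂(A G a) (D G a b ⊓ 𝐂[s])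
    rw [← inf_assoc, hW, bot_inf_eq, card_bot, one_mul] at h1
    rw [← h1, Nat.card_zpowers]
    exact (relIndex_le_of_le_right inf_le_right (relIndex_pos _ _).ne').trans
      (h.relIndex_leP h3 hA hs s1))).symm
  have f2 : ∀ g ∈ stabilizer G a ⊓ 𝐍(zpowers d),
      ∃ y ∈ 𝐂(A G a) ⊓ 𝐂[d], ∃ v ∈ zpowers d, y * v = g := fun g hg => by
    have h1 : g ∈ 𝐂[s] := mem_cent1_iff_conj.2 (h6 _ (conj_mem_of_norm (mem_norm_inf
      (stab_le_norm a hg.1) (cent_zpowers d ▸ norm_le_norm_cent _ hg.2)) ⟨hs, e⟩)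
      (BSW.conj_ne_one s1))
    obtain ⟨y, hy, v, hv, rfl⟩ := hP.mem_iff.1 hg.1
    have h2 : v ∈ zpowers d := f1.le ⟨hv, (mul_mem_cancel_left (cent_le_cent1 hs hy)).1 h1⟩
    have h4 := (mul_mem_cancel_right (le_norm_self _ h2)).1 hg.2
    refine ⟨y, ⟨hy, mem_cent1_iff_conj.2 (mul_inv_eq_one.1 (hW.le (mem_inf.2 ⟨?_,
      (f0 (mul_mem (conj_mem_of_norm h4 (mem_zpowers d)) (inv_mem (mem_zpowers d)))).1⟩)))⟩,
      v, h2, rfl⟩
    rw [mul_assoc, mul_assoc]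
    exact mul_mem hy (mul_assoc d y⁻¹ d⁻¹ ▸ hC.conj_mem hd.1 (inv_mem hy))
  have hz : zpowers d ≤ 𝐂[d] := zpowers_le.2 (mem_cent1.2 rfl)
  have hn : 𝐂[d] ≤ 𝐍(zpowers d) := (cent_zpowers d).ge.trans (cent_le_norm _)
  obtain ⟨w, -, h9, -, h10⟩ := h.exists_swap h.ne hs s1 ht t1
  have fx : ∀ c, d • c = c → c = a ∨ ∃ y ∈ 𝐂(A G a) ⊓ 𝐂[d], y • b = c := fun c e1 =>
    (eq_or_ne c a).imp_right fun e2 => by
      obtain ⟨y, hy, rfl⟩ := h.cent_transP h3 h.ne e2.symm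
      refine ⟨y, ⟨hy, mem_cent1_comm.1 (mem_cent1_iff_conj.2 (h.eq_of_smul_eq hS hC.le h.ne
        (hC.conj_mem hd.1 hy) hy ?_))⟩, rfl⟩
      nth_rw 1 [← hd.2]
      rw [conj_smul_smul, e1]
  have fo : ∀ c, d • c = c → ∃ x ∈ 𝐂[d], x • a = c := fun c e1 => by
    obtain rfl | ⟨y, hy, rfl⟩ := fx c e1
    · exact ⟨1, one_mem _, one_smul _ _⟩
    · exact ⟨y * w, mul_mem hy.2 (h10 _ e e'), by rw [mul_smul, h9]⟩
  have f3 : 𝐍(zpowers d) ≤ 𝐂[d] := fun g hg => by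
    obtain ⟨x, hx, e1⟩ := fo (g • a) (smul_fix_of_norm hg (zpowers_le.2 hd.1) (mem_zpowers d))
    obtain ⟨y, hy, v, hv, e2⟩ := f2 (x⁻¹ * g) (mem_inf.2 ⟨mem_stabilizer_iff.2 (by
      rw [mul_smul, ← e1, inv_smul_smul]), mul_mem (inv_mem (hn hx)) hg⟩)
    exact (mul_mem_cancel_left (inv_mem hx)).1 (e2 ▸ mul_mem hy.2 (hz hv))
  have h8 : (stabilizer G a).relIndex 𝐂[d] = 9 := by
    rw [show (stabilizer G a).relIndex 𝐂[d] = _ from index_stabilizer _ a,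
      show orbit 𝐂[d] a = insert a ((fun y : G => y • b) '' (𝐂(A G a) ⊓ 𝐂[d] : Subgroup G)) from
        Set.ext fun c => ⟨fun ⟨g, e1⟩ => fx c (by
          rw [← show (g : G) • a = c from e1, ← mul_smul, ← mem_cent1.1 g.2, mul_smul, hd.1]), by
          rintro (rfl | ⟨y, hy, rfl⟩)
          · exact mem_orbit_self _
          · exact ⟨⟨y * w, mul_mem hy.2 (h10 _ e e')⟩, by rw [← h9]; exact mul_smul y w a⟩⟩,
      Set.ncard_insert_of_notMem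
      (by exact fun ⟨y, hy, e⟩ => ne y (hC.le hy.1) e.symm) (by haveI := h.finite; toFinite_tac),
      Set.ncard_image_of_injOn
      fun x hx y hy => h.eq_of_smul_eq hS hC.le h.ne hx.1 hy.1, ← Nat.card_coe_set_eq,
      SetLike.coe_sort_coe, hY]
  have f4 : IsProd (𝐂(A G a) ⊓ 𝐂[d]) (zpowers d) (stabilizer G a ⊓ 𝐂[d]) :=
    .of_forall (inf_le_inf_right _ hC.le) (le_inf (zpowers_le.2 hd.1) hz)
      fun g hg => f2 g ⟨hg.1, hn hg.2⟩
  have f5 : ♯𝐂[d] = 72 * orderOf d := by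
    have h1 := f4.card
    rw [show 𝐂(A G a) ⊓ 𝐂[d] ⊓ zpowers d = ⊥ from eq_bot_iff.2 fun x hx =>
      hW.le ⟨hx.1.1, (f0 hx.2).1⟩, card_bot, mul_one, hY, Nat.card_zpowers] at h1
    rw [← card_inf_mul_relIndex (stabilizer G a), h8, ← h1]; ring
  have hd' : IsPGroup (orderOf d) (zpowers d) :=
    .of_card ((Nat.card_zpowers d).trans (pow_one _).symm)
  by_cases p3 : orderOf d ≠ 3
  · have h1 : Syl (orderOf d) (zpowers d) ⊤ := .of_syl_norm le_top (by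
      rw [top_inf_eq, le_antisymm f3 hn]
      refine ⟨hz, hd', fun e => ?_⟩
      have h2 := card_mul_relIndex hz
      rw [f5, Nat.card_zpowers, mul_comm] at h2
      rw [Nat.eq_of_mul_eq_mul_right hp.pos h2, show 72 = 2 ^ 3 * 3 ^ 2 by norm_num] at e
      rcases (Nat.Prime.dvd_mul hp).1 e with e | e
      · exact hdo ((Nat.prime_dvd_prime_iff_eq hp Nat.prime_two).1 (hp.dvd_of_dvd_pow e)).symm.dvd
      · exact p3 ((Nat.prime_dvd_prime_iff_eq hp Nat.prime_three).1 (hp.dvd_of_dvd_pow e)))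
    have h2 := Burnside_normal_complement h1 (inf_le_right.trans (f3.trans (cent_zpowers d).ge))
    rcases (normalIn_top.1 h2.normal).eq_bot_or_eq_top with e1 | e1
    · exact h.smul_ne hs s1 h.ne (f0 (by
        simpa [e1] using h2.isProd.sup_eq.ge (mem_top s))).1.2
    · exact d1 (h2.inf_eq.le ⟨e1.ge (mem_top d), mem_zpowers d⟩)
  replace p3 := not_not.1 p3
  rw [p3] at hA hq f5 hd'
  have hO := not_dvd_Op' (p := 2) 𝐂[d]
  have hN : Op' 2 𝐂[d] ⊴ 𝐂[d] := (NormalIn.refl _).Opi _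
  have hdO : zpowers d ≤ Op' 2 𝐂[d] := le_Opi ⟨hz, hn⟩
    ((piGrp_compl_singleton Nat.prime_two).2 (by rwa [Nat.card_zpowers]))
  have z1 : ∀ g ∈ 𝐂[d], g * s * g⁻¹ * s⁻¹ ∈ Op' 2 𝐂[d] := fun g hg =>
    Op'_eq_map (p := 2) 𝐂[d] ▸ mem_map_of_mem _ (R1.zstar 𝐂[d] ⟨s, e⟩
      (Subtype.ext (h.sq hs)) (fun k e1 => Subtype.ext (h6 _ ⟨h.mem_A.2 ⟨h.cent_le hs s1
        (mem_cent1.2 (congrArg Subtype.val e1).symm), BSW.conj_mul_self (h.sq hs)⟩,
        (k * ⟨s, e⟩ * k⁻¹).2⟩ (BSW.conj_ne_one s1))) ⟨g, hg⟩)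
  generalize Op' 2 𝐂[d] = O at hO hN hdO z1
  have z2 : IsPGroup 2 (zpowers s) := (h.A_two a).to_le (zpowers_le.2 hs)
  have z3 := IsSdprod.of_coprime (zpowers_le.2 (hN.norm e)) (coprime_of_isPGroup z2
    ((piGrp_compl_singleton Nat.prime_two).2 hO)).symm
  have z4 : Syl 2 (zpowers s) (O ⊔ zpowers s) := ⟨le_sup_right, z2, z3.relIndex_right ▸ hO⟩
  have z5 : IsSdprod O (𝐂(A G a) ⊓ 𝐂[d]) 𝐂[d] := .of_normal hN inf_le_right (fun g hg => by
      obtain ⟨x, hx, n, hn', rfl⟩ := (z4.frattini (M := 𝐂[d]) ⟨sup_le hN.le (zpowers_le.2 e),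
        le_norm_iff.2 fun g hg x hx => conj_le_iff.1 (show g •ᶜ (O ⊔ zpowers s) ≤ _ by
          rw [conj_sup, conj_zpowers, conj_eq_of_mem_norm (hN.norm hg)]
          exact sup_le le_sup_left (zpowers_le.2 (inv_mul_cancel_right (g * s * g⁻¹) s ▸
            mul_mem_sup (z1 g hg) (mem_zpowers s)))) x hx⟩).mem_iff.1 hg
      obtain ⟨y, hy, v, hv, rfl⟩ := f4.mem_iff.1 ⟨h.fix_of_conj hs s1 (zpowers_le.2 hs
        (conj_mem_of_norm hn'.2 (mem_zpowers s))), hn'.1⟩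
      exact mul_mem (sup_le_sup_left (zpowers_le.2 (mem_inf.2 ⟨Ab.le_cent (h.A_ab a) hs, e⟩)) O hx)
        (mul_mem (mem_sup_right hy) (mem_sup_left (hdO hv))))
    (inf_comm O _ ▸ (piGrp_singleton (hS.to_le inf_le_left)).inf_eq_bot
      ((piGrp_compl_singleton Nat.prime_two).2 hO))
  have z6 : ♯O = 27 := by
    have := z5.card
    rw [hY, f5] at this
    omega
  have z7 : IsPGroup 3 O := .of_card (n := 3) z6
  have g1 : Nat.card G = 513 * 512 * 21 := by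
    have h1 := h.card_eq hS hC.le h.ne fun _ => h.cent_transP h3 h.ne
    have h2 := hP.card
    have h4 := card_inf_mul_relIndex 𝐂[s] (D G a b)
    rw [inf_comm, f1, Nat.card_zpowers, p3, h.relIndex_cent h.ne hs s1 le_rfl inf_le_left, hA] at h4
    rw [hW, card_bot, mul_one, hq, ← h4] at h2
    rw [← card_mul_index (stabilizer G a), h.index_stab, h1, hq, ← h2]
    norm_num
  have g2 := card_mul_relIndex hN.norm
  have g3 := card_subgroup_dvd_card 𝐍(O)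
  have g4 : 3 ∣ 𝐂[d].relIndex 𝐍(O) := by_contra fun e1 => by
    have h1 : Syl 3 O ⊤ := .of_syl_norm le_top (by
      rw [top_inf_eq]
      refine ⟨le_norm_self O, z7, fun e2 => ?_⟩
      rw [← relIndex_mul_relIndex _ _ _ hN.le hN.norm, z5.relIndex_left, hY] at e2
      omega)
    have h2 := card_mul_relIndex (le_top : O ≤ ⊤)
    have := h1.not_dvd
    rw [card_top, g1, z6] at h2
    omega
  have g5 := relIndex_centralizer_eq_ncard 𝐍(O) d
  have g6 : {y | ∃ g ∈ 𝐍(O), y = g * d * g⁻¹} ⊆ O := by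
    rintro _ ⟨g, hg, rfl⟩
    exact conj_mem_of_norm hg (hdO (mem_zpowers d))
  have g7 := Set.ncard_le_ncard g6
  rw [← Nat.card_coe_set_eq (O : Set G), SetLike.coe_sort_coe, z6] at g7
  have g8 : 8 ∣ ({y | ∃ g ∈ 𝐍(O), y = g * d * g⁻¹} \ {d}).ncard :=
    dvd_ncard_conjP (P := 𝐂(A G a) ⊓ 𝐂[d]) (by
      rintro x hx _ ⟨⟨g, hg, rfl⟩, e1⟩
      refine ⟨⟨x * g, mul_mem (hN.norm hx.2) hg, by group⟩, fun e2 => e1 ?_⟩
      have := (Set.mem_singleton_iff.1 e2).trans (mem_cent1_iff_conj.1 hx.2).symm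
      exact mul_left_cancel (mul_right_cancel this)) (by
      rintro _ ⟨⟨g, hg, rfl⟩, e1⟩
      have h1 := card_inf_mul_relIndex 𝐂[g * d * g⁻¹] (𝐂(A G a) ⊓ 𝐂[d])
      rw [show 𝐂[g * d * g⁻¹] ⊓ (𝐂(A G a) ⊓ 𝐂[d]) = ⊥ from by_contra fun e2 => ?_, card_bot, one_mul,
        hY] at h1
      · rw [h1]
      obtain ⟨z, hz', y1, y2⟩ := R1.exists_invol_mem (dvd_card_of_isPGroup
        (hS.to_le (inf_le_right.trans inf_le_left)) e2)
      obtain rfl := h6 z ⟨h.mem_A.2 ⟨hC.le hz'.2.1, y2⟩, hz'.2.2⟩ y1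
      have h2 := g6 ⟨g, hg, rfl⟩
      have h4 : g * d * g⁻¹ ∈ zpowers d :=
        (IsSylowIn.le_of_norm (P := zpowers d) (M := stabilizer G a ⊓ 𝐂[d]) ⟨f4.right_le, hd', by
          rw [f4.relIndex_eq]
          exact fun e => by
            have := e.trans (relIndex_dvd_card _ _)
            omega⟩ (zpowers_le.2 (mem_inf.2 ⟨h.cent_le hs y1 (mem_cent1_comm.1 hz'.1), hN.le h2⟩))
          (z7.to_le (zpowers_le.2 h2)) (.inr ((zpowers_le.2 (hN.le h2)).trans hn))) (mem_zpowers _)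
      exact e1 (mem_cent1_iff_conj.1 (f3 (mem_norm_of_conj_le (by
        rw [conj_zpowers]; exact zpowers_le.2 h4)))))
  have g9 := Set.ncard_diff_singleton_add_one
    (show d ∈ {y | ∃ g ∈ 𝐍(O), y = g * d * g⁻¹} from ⟨1, one_mem _, by simp⟩)
  rw [← g5] at g7 g9
  rw [← g2, f5, g1, show 𝐂[d].relIndex 𝐍(O) = 9 by omega] at g3
  norm_num at g3

end Cfsg.Agent.SZ
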