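import Cfsg.Agent.Lib.SP.Def

/-!
# Class `CP`: `C(A)` is transitive on the remaining points
-/

set_option autoImplicit false
set_option linter.unusedSectionVars false

namespace Cfsg.Agent.SZ

open Subgroup MulAction Cfsg.Agent.Coprime Cfsg.Agent.OO Cfsg.Agent.SEA Cfsg.Agent.SP
open scoped Pointwise

universe u

variable {G Ω : Type u} [Group G] [MulAction G Ω] [Finite G]
  {a b c : Ω} {d g k r s t u w x y z : G} {H K L P Q S T X : Subgroup G} {p n : ℕ}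

namespace Hyp

variable (h : Hyp G Ω) (h3 : CP G)
include h h3

theorem odd_relIndexP (h2 : H ≤ stabilizer G a) : ¬ 2 ∣ (𝐂(A G a)).relIndex H := fun e => by
  obtain ⟨S, hS⟩ := exists_syl 2 (stabilizer G a)
  exact hS.not_dvd ((e.trans (relIndex_dvd_of_le_norm h2 (h.cent_normal a).norm)).trans
    (relIndex_dvd_of_le_left _ (le_cent_comm.1 fun t ht =>
      h3.cen S hS.isPGroup t (h.A_le_syl hS (h.A_le a) le_rfl ht) (h.sq ht))))

theorem le_centP (hQ : IsPGroup 2 Q) (h1 : Q ≤ stabilizer G a) : Q ≤ 𝐂(A G a) :=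
  (piGrp_singleton hQ).le_of_relIndex h1 (h.cent_normal a).norm fun p hp hd e =>
    h.odd_relIndexP h3 le_rfl (Set.mem_singleton_iff.1 e ▸ hd)

theorem exists_lin_stabP (hab : a ≠ b) (hn : ♯(A G a) = 2 ^ n) :
    ∃ T f, Lin (A G a) (stabilizer G a) T f n := by
  obtain ⟨u, hu, e⟩ := h.exists_swap' hab
  refine exists_lin (h.abelem a) (fun e => by simpa [e] using h.four a) (stab_le_norm a)
    (h.odd_relIndexP h3 le_rfl) hn fun s hs s1 t ht t1 => ?_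
  obtain ⟨k, hk, -, e⟩ := h.exists_conj hab hu e hs s1 ht t1
  exact ⟨k, hk.1, e⟩

theorem relIndex_leP (hn : ♯(A G a) = 2 ^ n) (hs : s ∈ A G a) (s1 : s ≠ 1) :
    (𝐂(A G a)).relIndex 𝐂[s] ≤ n := by
  haveI := h.nontriv
  obtain ⟨b, hab⟩ := exists_ne a
  obtain ⟨T, f, hT⟩ := h.exists_lin_stabP h3 hab.symm hn
  have h1 := relIndex_mul_relIndex _ _ _ (cent_le_cent1 hs) (h.cent_le hs s1)
  have h2 := relIndex_mul_relIndex _ _ _ (fun x hx => hT.cent_le ⟨h.cent_A_le a hx, hx⟩) hT.le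
  rw [h.relIndex_cent hab.symm hs s1 inf_le_left le_rfl] at h1
  have h3 := hT.relIndex_le hs s1
  have h4 := Nat.le_of_dvd (Nat.pos_of_ne_zero (by rintro rfl; have := h.four a; omega)) hT.index
  have h5 := h.four a
  refine Nat.le_of_mul_le_mul_right ?_ (show 0 < ♯(A G a) - 1 by omega)
  rw [h1, ← h2, mul_comm]
  exact Nat.mul_le_mul h4 h3

theorem pnilP (a : Ω) : PNil 2 𝐂(A G a) := ZG.pnil_two fun R hR hR' g hg hn ho =>
  h3.odd R hR' g hn (fun e => Nat.not_even_iff_odd.2 ho (even_iff_two_dvd.2 e)) fun t ht t2 =>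
    cent_le_cent1 (h.mem_A.2 ⟨h.cent_A_le a (hR ht), t2⟩) hg

end Hyp

theorem Fr.isProdP (h : Fr G a b u K) (h3 : CP G) :
    IsProd 𝐂(A G a) (D G a b) (stabilizer G a) := by
  have hC := h.cent_normal a
  obtain ⟨n, n2, hn⟩ := h.exists_card a
  obtain ⟨T, f, hT⟩ := h.exists_lin_stabP h3 h.ne hn
  obtain ⟨c, hc, c1⟩ : ∃ c ∈ K ⊓ T, c ≠ 1 := exists_mem_ne_one fun e => by
    have h1 := card_inf_mul_relIndex T K
    rw [inf_comm, e, card_bot, one_mul, h.card_K, hn] at h1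
    have h2 := (relIndex_le_of_le_right (H := T) h.K_le' (relIndex_pos _ _).ne').trans
      (Nat.le_of_dvd (by omega) hT.index)
    have h4 : ∀ m : ℕ, m + 2 + 1 < 2 ^ (m + 2) := fun m => by
      induction m with
      | zero => norm_num
      | succ m ih => rw [pow_succ]; omega
    have := h4 (n - 2)
    rw [Nat.sub_add_cancel n2] at this
    omega
  have h4 : zpowers c ≤ stabilizer G a := zpowers_le.2 (h.K_le' hc.1)
  have h5 : 𝐂(A G a) ≤ T := fun x hx => hT.cent_le ⟨hC.le hx, hx⟩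
  refine .of_forall hC.le inf_le_left fun g hg => ?_
  obtain ⟨l, hl, d, hd, rfl⟩ := h.frattini hT.normal le_rfl hc.1 c1 hc.2 hg
  obtain ⟨m, hm, d', hd', rfl⟩ := h.frattini (L := 𝐂(A G a) ⊔ zpowers c) (H := T)
    ⟨sup_le h5 (zpowers_le.2 hc.2), le_norm_iff.2 fun g hg x hx => by
      have := hT.der_le_cent (commutator_mem_commutator hg (sup_le h5 (zpowers_le.2 hc.2) hx))
      rw [← inv_mul_cancel_right (g * x * g⁻¹) x]
      exact mul_mem (mem_sup_left this) hx⟩ hT.le hc.1 c1 (mem_sup_right (mem_zpowers c)) hl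
  obtain ⟨y, hy, j, hj, rfl⟩ := (mem_sup_norm_left (h4.trans hC.norm)).1 hm
  exact ⟨y, hy, j * d' * d, mul_mem (mul_mem (h.K_le (zpowers_le.2 hc.1 hj)) hd') hd, by group⟩

namespace Hyp

variable (h : Hyp G Ω) (h3 : CP G)
include h h3

theorem cent_transP (hab : a ≠ b) (hac : a ≠ c) : ∃ y ∈ 𝐂(A G a), y • b = c := by
  obtain ⟨u, K, hK⟩ := h.exists_fr' hab
  obtain ⟨g, hg, rfl⟩ := h.two_trans hab hac
  obtain ⟨y, hy, d, hd, rfl⟩ := (hK.isProdP h3).mem_iff.1 hg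
  exact ⟨y, hy, by rw [mul_smul, hd.2]⟩

omit h3 in
theorem syl_topP (hS : Syl 2 S (stabilizer G a)) : Syl 2 S ⊤ := by
  obtain ⟨s, hs, s1⟩ := h.exists_A a
  exact .of_syl_norm le_top (hS.mono (le_inf le_top (le_norm_self S)) fun g hg =>
    h.fix_of_conj hs s1 (h.mem_A.2 ⟨hS.le (conj_mem_of_norm hg.2
      (h.A_le_syl hS (h.A_le a) le_rfl hs)), BSW.conj_mul_self (h.sq hs)⟩))

omit h3 in
theorem not_abP (h2 : ¬ R1.Ab2 G) (hS : Syl 2 S (stabilizer G a)) : ¬ Ab S := fun e =>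
  h2 fun P hP => let ⟨_, _, e'⟩ := (h.syl_topP hS).exists_le_conj' le_top hP
    ab_of_le (ab_conj.2 e) e'

omit h3 in
theorem exists_QP (h2 : ¬ R1.Ab2 G) (e : Nat.card Ω = ♯(A G a) ^ 2 + 1) (hab : a ≠ b) :
    ∃ Q : Subgroup G, IsPGroup 2 Q ∧ Q ≤ stabilizer G a ∧
      ♯Q = ♯(A G a) ^ 2 ∧ ¬ Ab Q ∧ ∀ c, a ≠ c → ∃ y ∈ Q, y • b = c := by
  haveI := h.finite
  obtain ⟨S, hS⟩ := exists_syl 2 (stabilizer G a)
  obtain ⟨n, -, hn⟩ := h.exists_card a
  have h1 : (stabilizer G b).relIndex (stabilizer G a) = ♯(A G a) ^ 2 := by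
    rw [show (stabilizer G b).relIndex (stabilizer G a) = _ from index_stabilizer _ b,
      show orbit (stabilizer G a) b = Set.univ \ {a} from Set.ext fun c => ⟨fun ⟨g, e⟩ =>
        ⟨trivial, fun e' => hab (smul_left_cancel g (g.2.trans (e.trans e').symm))⟩, fun hc =>
        let ⟨g, hg, e⟩ := h.two_trans hab (Ne.symm hc.2); ⟨⟨g, hg⟩, e⟩⟩,
      Set.ncard_diff_singleton_of_mem (Set.mem_univ a), Set.ncard_univ, e, Nat.add_sub_cancel]
  have tr : ∀ c, a ≠ c → ∃ y ∈ S, y • b = c := fun c hc => by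
    obtain ⟨g, hg, rfl⟩ := h.two_trans hab hc
    obtain ⟨y, hy, d, hd, rfl⟩ := (IsProd.of_coprime_relIndex hS.le (D_le a b) (by
      rw [D, inf_relIndex_left, h1, hn, ← pow_mul]
      exact ((Nat.Prime.coprime_iff_not_dvd Nat.prime_two).2 hS.not_dvd).symm.pow_right _)).mem_iff.1
        hg
    exact ⟨y, hy, by rw [mul_smul, hd.2]⟩
  exact ⟨S, hS.isPGroup, hS.le, add_right_cancel ((h.card_eq hS.isPGroup hS.le hab tr).symm.trans e),
    h.not_abP h2 hS, tr⟩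

theorem three_leP (hz : z • a = a) (h1 : z ∉ 𝐂(A G a)) :
    3 * ♯(𝐂[z] ⊓ A G a) ≤ ♯(A G a) := by
  rw [← card_inf_mul_relIndex 𝐂[z] (A G a), mul_comm]
  refine Nat.mul_le_mul_left _ (by_contra fun e => h1 ?_)
  have h2 := relIndex_pos 𝐂[z] (A G a)
  by_cases e1 : (𝐂[z]).relIndex (A G a) = 1
  · exact le_cent1_iff.1 (relIndex_eq_one.1 e1)
  have h4 : z * z ∈ 𝐂(A G a) := mem_cent_iff_conj.2 fun t ht => by
    have h5 := conj_mem_of_norm (stab_le_norm a hz) ht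
    have h6 := mem_cent1_iff_conj.1 (mem_cent1_comm.1 ((ZN.mul_mem_iff_of_relIndex_two
      (H := 𝐂[z]) (by omega) ht h5).2 (mem_norm_iff.1 (le_norm_self _ (mem_cent1.2 rfl)) t)))
    rw [← conj_mul, ab_iff.1 (h.A_ab a) _ ht _ h5] at h6
    nth_rw 2 [← mul_left_cancel h6]; group
  haveI := (h.cent_normal a).subgroupOf
  obtain ⟨j, hj⟩ : Odd ((𝐂(A G a)).relIndex (stabilizer G a)) :=
    Nat.not_even_iff_odd.1 fun e => h.odd_relIndexP h3 le_rfl e.two_dvd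
  have h5 : z ^ (𝐂(A G a)).relIndex (stabilizer G a) ∈ 𝐂(A G a) :=
    pow_index_mem (H := (𝐂(A G a)).subgroupOf (stabilizer G a)) ⟨z, hz⟩
  rwa [hj, pow_succ, pow_mul, pow_two, mul_mem_cancel_left (pow_mem h4 j)] at h5

end Hyp

theorem Fr.countP (h : Fr G a b u K) (h3 : CP G) (hs : s ∈ A G a) (s1 : s ≠ 1) :
    3 * (♯K * (♯𝐂[s] - ♯𝐂(A G a))) ≤
      ♯(A G a) * {x | (x • a = a ∧ 2 ∣ orderOf x) ∧ x ∉ 𝐂(A G a)}.ncard := by
  classical
  have hC := h.cent_normal a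
  have s2 : orderOf s = 2 := orderOf_eq_prime (by rw [pow_two, h.sq hs]) s1
  have h1 : ∀ x ∈ 𝐂[s], ¬ 2 ∣ orderOf x → constt {2} (s * x) = s := fun x hx e =>
    constt_eq_of_mul (by rw [PiElt, s2]; exact (isPiNum_prime Nat.prime_two).2 rfl)
      (fun p hp hd e' => e (Set.mem_singleton_iff.1 e' ▸ hd)) (mem_cent1.1 hx).symm
  have h2 : ∀ k ∈ K, ∀ x ∈ stabilizer G a, x ∉ 𝐂(A G a) → k * x * k⁻¹ ∉ 𝐂(A G a) :=
    fun k hk x hx e e' => e ((mem_norm_iff.1 (hC.norm (h.K_le' hk)) x).2 e')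
  rw [← card_elts, ← card_elts (H := 𝐂[s]), ← card_elts (H := 𝐂(A G a)),
    ← Finset.card_sdiff_of_subset fun x hx => mem_elts.2 (cent_le_cent1 hs (mem_elts.1 hx)),
    ← Finset.card_product, ← card_elts_set]
  refine (Nat.mul_le_mul_left 3 (Finset.card_le_mul_card_image_of_maps_to
    (f := fun p => p.1 * (if 2 ∣ orderOf p.2 then p.2 else s * p.2) * p.1⁻¹)
    (fun p hp => mem_elts.2 ?_) (♯(A G a) / 3) fun z hz => ?_)).trans
    (mul_assoc 3 _ _ ▸ Nat.mul_le_mul_right _ (Nat.mul_div_le _ _))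
  · obtain ⟨e1, e2⟩ := Finset.mem_product.1 hp
    obtain ⟨e2, e3⟩ := Finset.mem_sdiff.1 e2
    rw [mem_elts] at e1 e2 e3
    have e4 := h.cent_le hs s1 e2
    have e5 := h.K_le' e1
    split_ifs with e
    · exact ⟨⟨mul_mem (mul_mem e5 e4) (inv_mem e5), by rwa [orderOf_conj]⟩, h2 _ e1 _ e4 e3⟩
    · have e6 := mul_mem (h.A_le a hs) e4
      exact ⟨⟨mul_mem (mul_mem e5 e6) (inv_mem e5), by
        rw [orderOf_conj, ← s2]
        exact orderOf_dvd_of_mem_zpowers (h1 _ e2 e ▸ constt_mem_zpowers {2} (s * p.2) :)⟩, h2 _ e1 _ e6 fun e7 =>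
          e3 ((mul_mem_cancel_left (Ab.le_cent (h.A_ab a) hs)).1 e7)⟩
  have hz := mem_elts.1 hz
  refine le_trans ?_ ((Nat.le_div_iff_mul_le three_pos).2 (mul_comm 3 _ ▸ h.three_leP h3 hz.1.1 hz.2))
  rw [← card_elts]
  refine Finset.card_le_card_of_injOn (fun p => if 2 ∣ orderOf p.2 then p.1 * s * p.1⁻¹ else 1)
    (fun p hp => mem_elts.2 ?_) fun p hp q hq e => ?_
  · obtain ⟨e1, e⟩ := Finset.mem_filter.1 hp
    obtain ⟨e1, e2⟩ := Finset.mem_product.1 e1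
    dsimp only
    split_ifs at e ⊢
    · exact ⟨mem_cent1.2 (by
        rw [← e, conj_mul, conj_mul, mem_cent1.1 (mem_elts.1 (Finset.mem_sdiff.1 e2).1)]),
        conj_mem_of_norm (stab_le_norm a (h.K_le' (mem_elts.1 e1))) hs⟩
    · exact one_mem _
  obtain ⟨e1, e2⟩ := Finset.mem_filter.1 hp
  obtain ⟨e3, e4⟩ := Finset.mem_filter.1 hq
  obtain ⟨e1, e5⟩ := Finset.mem_product.1 e1
  obtain ⟨e3, e6⟩ := Finset.mem_product.1 e3
  replace e2 := e2.trans e4.symm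
  have key := (h.rg hs s1).eq (mem_elts.1 e1) (mem_elts.1 e3)
  dsimp only at e
  split_ifs at e e2 with c1 c2 c2
  · exact Prod.ext (key e) (by simpa [key e] using e2)
  · exact (BSW.conj_ne_one s1 e).elim
  · exact (BSW.conj_ne_one s1 e.symm).elim
  · have := congrArg (constt {2}) e2
    rw [constt_conj, constt_conj, h1 _ (mem_elts.1 (Finset.mem_sdiff.1 e5).1) c1,
      h1 _ (mem_elts.1 (Finset.mem_sdiff.1 e6).1) c2] at this
    exact Prod.ext (key this) (by simpa [key this] using e2)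

end Cfsg.Agent.SZ
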